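import Mathlib.LinearAlgebra.Determinant
import Mathlib.LinearAlgebra.Matrix.SchurComplement
import Mathlib.LinearAlgebra.FreeModule.Finite.Matrix
import Mathlib.LinearAlgebra.Matrix.Block
import Mathlib.LinearAlgebra.StdBasis
import Mathlib.RingTheory.Finiteness.Prod
import Mathlib.RingTheory.TensorProduct.Finite
import Mathlib.RingTheory.TensorProduct.Free
import Mathlib.LinearAlgebra.TensorProduct.Pi
import Mathlib.LinearAlgebra.TensorProduct.Prod
import Mathlib.Algebra.Polynomial.Basic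
import Mathlib.Tactic.NoncommRing

/-!
Determinants of endomorphisms of a contractible two periodic complex.
-/

set_option autoImplicit false
universe u

namespace Groth.L28.DetQis

open TensorProduct Polynomial

section

variable {R : Type*} [CommRing R] {E : Type*} [AddCommGroup E] [Module R E]
  [Module.Free R E] [Module.Finite R E]

lemma det_one_add_mul_comm (x y : Module.End R E) :
    LinearMap.det (1 + x * y) = LinearMap.det (1 + y * x) := by
  classical
  let b := Module.Free.chooseBasis R E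
  rw [← LinearMap.det_toMatrix b, ← LinearMap.det_toMatrix b, map_add, map_add, LinearMap.toMatrix_one,
    LinearMap.toMatrix_mul, LinearMap.toMatrix_mul]
  exact Matrix.det_one_add_mul_comm _ _

/-- block upper triangular -/
lemma det_of_idem (p m : Module.End R E) (hp : p * p = p) (hm : (1 - p) * m * p = 0) :
    LinearMap.det m = LinearMap.det (p * m * p + (1 - p) * m * (1 - p)) := by
  have hpq : p * (1 - p) = 0 := by rw [mul_sub, mul_one, hp, sub_self]
  have hqp : (1 - p) * p = 0 := by rw [sub_mul, one_mul, hp, sub_self]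
  have hqq : (1 - p) * (1 - p) = 1 - p := by rw [mul_sub, mul_one, hqp, sub_zero]
  have hmp : m * p = p * m * p := by
    rw [sub_mul, sub_mul, one_mul] at hm
    exact sub_eq_zero.1 hm
  set q := 1 - p with hq
  have hsum : p + q = 1 := by rw [hq]; abel
  have h1 : m = (p + m * q) * (m * p + q) := by
    calc m = m * (p + q) := by rw [hsum, mul_one]
      _ = p * m * p + p * q + m * (q * m * p) + m * (q * q) := by
          rw [hpq, hm, mul_zero, add_zero, add_zero, hqq, mul_add, ← hmp]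
      _ = _ := by noncomm_ring
  have h2 : p * m * p + q * m * q = (p + q * m * q) * (m * p + q) := by
    have e : p * p * m * p + p * q + q * m * (q * p) * m * p + q * m * (q * q) =
        (p + q * m * q) * (p * m * p + q) := by noncomm_ring
    rw [hp, hpq, hqp, mul_zero, zero_mul, zero_mul, add_zero, add_zero, hqq] at e
    rw [e, ← hmp]
  have h3 : p + m * q = (p + q * m * q) * (1 + p * (m * q)) := by
    have e : (p + q * m * q) * (1 + p * (m * q)) =
        p + q * m * q + p * p * (m * q) + q * m * (q * p) * (m * q) := by noncomm_ring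
    rw [e, hp, hqp, mul_zero, zero_mul, add_zero, hq]
    noncomm_ring
  have h4 : LinearMap.det (1 + p * (m * q)) = 1 := by
    rw [det_one_add_mul_comm, show m * q * p = 0 by rw [mul_assoc, hqp, mul_zero], add_zero, map_one]
  conv_lhs => rw [h1, map_mul, h3, map_mul, h4, mul_one]
  rw [h2, map_mul]

end

section

variable {R : Type*} [CommRing R] {E O : Type*} [AddCommGroup E] [Module R E] [AddCommGroup O]
  [Module R O] [Module.Free R E] [Module.Finite R E]

/-- an endomorphism of a contractible two periodic complex has the same determinant in both parities -/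
lemma det_eq_of_contractible (d₁ : E →ₗ[R] O) (d₂ : O →ₗ[R] E) (s₁ : E →ₗ[R] O) (s₂ : O →ₗ[R] E)
    (h21 : d₂ ∘ₗ d₁ = 0) (h12 : d₁ ∘ₗ d₂ = 0) (hE : d₂ ∘ₗ s₁ + s₂ ∘ₗ d₁ = LinearMap.id)
    (hO : d₁ ∘ₗ s₂ + s₁ ∘ₗ d₂ = LinearMap.id)
    (me : E →ₗ[R] E) (mo : O →ₗ[R] O) (c₁ : mo ∘ₗ d₁ = d₁ ∘ₗ me) (c₂ : me ∘ₗ d₂ = d₂ ∘ₗ mo) :
    LinearMap.det me = LinearMap.det mo := by
  have e21 : ∀ x, d₂ (d₁ x) = 0 := LinearMap.congr_fun h21
  have e12 : ∀ x, d₁ (d₂ x) = 0 := LinearMap.congr_fun h12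
  have eE : ∀ x, d₂ (s₁ x) + s₂ (d₁ x) = x := LinearMap.congr_fun hE
  have eO : ∀ x, d₁ (s₂ x) + s₁ (d₂ x) = x := LinearMap.congr_fun hO
  have ec₁ : ∀ x, mo (d₁ x) = d₁ (me x) := LinearMap.congr_fun c₁
  have ec₂ : ∀ x, me (d₂ x) = d₂ (mo x) := LinearMap.congr_fun c₂
  -- normalised homotopies
  set t₁ := s₁ ∘ₗ d₂ ∘ₗ s₁ with ht₁
  set t₂ := s₂ ∘ₗ d₁ ∘ₗ s₂ with ht₂
  have dd₁ : ∀ x, d₁ (s₂ (d₁ x)) = d₁ x := fun x => by
    have := eO (d₁ x); rwa [e21, map_zero, add_zero] at this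
  have dd₂ : ∀ x, d₂ (s₁ (d₂ x)) = d₂ x := fun x => by
    have := eE (d₂ x); rwa [e12, map_zero, add_zero] at this
  have fE : ∀ x, d₂ (t₁ x) + t₂ (d₁ x) = x := fun x => by
    simp only [ht₁, ht₂, LinearMap.comp_apply, dd₁, dd₂]
    exact eE x
  have fO : ∀ x, d₁ (t₂ x) + t₁ (d₂ x) = x := fun x => by
    simp only [ht₁, ht₂, LinearMap.comp_apply, dd₁, dd₂]
    exact eO x
  have tt : ∀ x, d₁ (s₂ (s₁ (d₂ x))) = 0 := fun x => by
    have h1 : s₂ (d₁ (s₂ x)) + s₂ (s₁ (d₂ x)) = s₂ x := by rw [← map_add, eO]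
    have h2 := congrArg d₁ h1
    rwa [map_add, dd₁, add_eq_left] at h2
  have tt' : ∀ x, d₂ (s₁ (s₂ (d₁ x))) = 0 := fun x => by
    have h1 : s₁ (d₂ (s₁ x)) + s₁ (s₂ (d₁ x)) = s₁ x := by rw [← map_add, eE]
    have h2 := congrArg d₂ h1
    rwa [map_add, dd₂, add_eq_left] at h2
  have z21 : ∀ x, t₂ (t₁ x) = 0 := fun x => by
    simp only [ht₁, ht₂, LinearMap.comp_apply, tt, map_zero]
  have z12 : ∀ x, t₁ (t₂ x) = 0 := fun x => by
    simp only [ht₁, ht₂, LinearMap.comp_apply, tt', map_zero]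
  let Φ : E ≃ₗ[R] O := LinearEquiv.ofLinearMap (d₁ + t₁) (d₂ + t₂)
    (LinearMap.ext fun x => by
      show d₁ (d₂ x + t₂ x) + t₁ (d₂ x + t₂ x) = x
      simp only [map_add, e12, z12, zero_add, add_zero]
      exact fO x)
    (LinearMap.ext fun x => by
      show d₂ (d₁ x + t₁ x) + t₂ (d₁ x + t₁ x) = x
      simp only [map_add, e21, z21, zero_add, add_zero]
      exact fE x)
  rw [← LinearMap.det_conj mo Φ.symm]
  set p : Module.End R E := d₂ ∘ₗ t₁ with hp
  set r : Module.End R E := t₂ ∘ₗ mo ∘ₗ t₁ with hr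
  have hq : (1 - p : Module.End R E) = t₂ ∘ₗ d₁ := LinearMap.ext fun x => by
    show x - d₂ (t₁ x) = t₂ (d₁ x)
    exact sub_eq_iff_eq_add'.2 (fE x).symm
  have hpp : p * p = p := LinearMap.ext fun x => by
    show d₂ (t₁ (d₂ (t₁ x))) = d₂ (t₁ x)
    have h := fE (d₂ (t₁ x))
    rwa [e12, map_zero, add_zero] at h
  have hqmp : (1 - p) * me * p = 0 := by
    rw [hq]
    exact LinearMap.ext fun x => by
      show t₂ (d₁ (me (d₂ (t₁ x)))) = 0
      rw [ec₂, e12, map_zero]
  have hN : ((Φ.symm : O →ₗ[R] E) ∘ₗ mo ∘ₗ (Φ.symm.symm : E →ₗ[R] O)) = me * p + (1 - p) * me + r := by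
    rw [hq]
    refine LinearMap.ext fun x => ?_
    show d₂ (mo (d₁ x + t₁ x)) + t₂ (mo (d₁ x + t₁ x)) =
      me (d₂ (t₁ x)) + t₂ (d₁ (me x)) + t₂ (mo (t₁ x))
    simp only [map_add, ec₁, e21, ec₂]
    abel
  rw [hN]
  have hpr : p * r = 0 := LinearMap.ext fun x => by
    show d₂ (t₁ (t₂ _)) = 0
    rw [z12, map_zero]
  have hrq : r * (1 - p) = 0 := by
    rw [hq]
    exact LinearMap.ext fun x => by
      show t₂ (mo (t₁ (t₂ _))) = 0
      rw [z12, map_zero, map_zero]
  have hmp : me * p = p * me * p := by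
    rw [sub_mul, sub_mul, one_mul] at hqmp
    exact sub_eq_zero.1 hqmp
  have hpq : p * (1 - p) = 0 := by rw [mul_sub, mul_one, hpp, sub_self]
  have hqp : (1 - p) * p = 0 := by rw [sub_mul, one_mul, hpp, sub_self]
  have hqq : (1 - p) * (1 - p) = 1 - p := by rw [mul_sub, mul_one, hqp, sub_zero]
  set q := 1 - p with hqdef
  have hqqm : (1 - q) = p := by rw [hqdef]; abel
  rw [det_of_idem p me hpp hqmp, det_of_idem q (me * p + q * me + r) hqq]
  · rw [hqqm]
    have e1 : q * (me * p + q * me + r) * q =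
        q * me * (p * q) + q * q * me * q + q * (r * q) := by noncomm_ring
    have e2 : p * (me * p + q * me + r) * p =
        p * me * (p * p) + p * q * me * p + p * r * p := by noncomm_ring
    rw [e1, e2, hpq, hqq, hrq, hpp, hpr]
    simp only [mul_zero, zero_mul, add_zero, zero_add]
    rw [add_comm]
  · rw [hqqm]
    have e3 : p * (me * p + q * me + r) * q =
        p * me * (p * q) + p * q * me * q + p * r * q := by noncomm_ring
    rw [e3, hpq, hpr]
    simp

end

section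

variable {R : Type*} [CommRing R]

lemma det_blockDiagonal' {ι : Type*} [Fintype ι] [DecidableEq ι] {n : ι → Type*} [∀ i, Fintype (n i)]
    [∀ i, DecidableEq (n i)] (M : ∀ i, Matrix (n i) (n i) R) :
    (Matrix.blockDiagonal' M).det = ∏ i, (M i).det := by
  let _ : LinearOrder ι := LinearOrder.lift' (Fintype.equivFin ι) (Fintype.equivFin ι).injective
  rw [(Matrix.blockTriangular_blockDiagonal' M).det_fintype]
  refine Finset.prod_congr rfl fun k _ => ?_
  rw [← Matrix.det_submatrix_equiv_self (Equiv.sigmaSubtype k).symm]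
  congr 1
  ext x y
  simp [Matrix.toSquareBlock_def, Equiv.sigmaSubtype, Matrix.blockDiagonal'_apply_eq]

lemma det_pi {ι : Type*} [Fintype ι] [DecidableEq ι] {M : ι → Type*} [∀ i, AddCommGroup (M i)]
    [∀ i, Module R (M i)] [∀ i, Module.Free R (M i)] [∀ i, Module.Finite R (M i)] (f : ∀ i, M i →ₗ[R] M i) :
    LinearMap.det (LinearMap.pi fun i => f i ∘ₗ LinearMap.proj i) = ∏ i, LinearMap.det (f i) := by
  classical
  let b := fun i => Module.Free.chooseBasis R (M i)
  let B := Pi.basis b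
  rw [← LinearMap.det_toMatrix B]
  have : LinearMap.toMatrix B B (LinearMap.pi fun i => f i ∘ₗ LinearMap.proj i) =
      Matrix.blockDiagonal' (fun i => LinearMap.toMatrix (b i) (b i) (f i)) := by
    ext ⟨i, x⟩ ⟨j, y⟩
    rw [LinearMap.toMatrix_apply]
    by_cases h : i = j
    · subst h
      rw [Matrix.blockDiagonal'_apply_eq, LinearMap.toMatrix_apply]
      simp [B, Pi.basis_apply, Pi.basis_repr]
    · rw [Matrix.blockDiagonal'_apply_ne _ _ _ h]
      simp [B, Pi.basis_apply, Pi.basis_repr, Pi.single_eq_of_ne h]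
  rw [this, det_blockDiagonal']
  exact Finset.prod_congr rfl fun i _ => LinearMap.det_toMatrix _ _

end

section

variable {A : Type u} [CommRing A] {E O : Type*} [AddCommGroup E] [Module A E] [AddCommGroup O] [Module A O]

/-- `det (1 - X w)` -/
noncomputable def chi (w : E →ₗ[A] E) : A[X] :=
  LinearMap.det (LinearMap.id - (X : A[X]) • w.baseChange A[X])

lemma chi_eq_of_contractible [Module.Free A E] [Module.Finite A E]
    (d₁ : E →ₗ[A] O) (d₂ : O →ₗ[A] E) (s₁ : E →ₗ[A] O) (s₂ : O →ₗ[A] E)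
    (h21 : d₂ ∘ₗ d₁ = 0) (h12 : d₁ ∘ₗ d₂ = 0) (hE : d₂ ∘ₗ s₁ + s₂ ∘ₗ d₁ = LinearMap.id)
    (hO : d₁ ∘ₗ s₂ + s₁ ∘ₗ d₂ = LinearMap.id)
    (me : E →ₗ[A] E) (mo : O →ₗ[A] O) (c₁ : mo ∘ₗ d₁ = d₁ ∘ₗ me) (c₂ : me ∘ₗ d₂ = d₂ ∘ₗ mo) :
    chi me = chi mo := by
  refine det_eq_of_contractible (d₁.baseChange A[X]) (d₂.baseChange A[X]) (s₁.baseChange A[X])
    (s₂.baseChange A[X]) ?_ ?_ ?_ ?_ _ _ ?_ ?_
  · rw [← LinearMap.baseChange_comp, h21, LinearMap.baseChange_zero]
  · rw [← LinearMap.baseChange_comp, h12, LinearMap.baseChange_zero]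
  · rw [← LinearMap.baseChange_comp, ← LinearMap.baseChange_comp, ← LinearMap.baseChange_add, hE,
      LinearMap.baseChange_id]
  · rw [← LinearMap.baseChange_comp, ← LinearMap.baseChange_comp, ← LinearMap.baseChange_add, hO,
      LinearMap.baseChange_id]
  · rw [LinearMap.sub_comp, LinearMap.comp_sub, LinearMap.id_comp, LinearMap.comp_id, LinearMap.smul_comp,
      LinearMap.comp_smul, ← LinearMap.baseChange_comp, ← LinearMap.baseChange_comp, c₁]
  · rw [LinearMap.sub_comp, LinearMap.comp_sub, LinearMap.id_comp, LinearMap.comp_id, LinearMap.smul_comp,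
      LinearMap.comp_smul, ← LinearMap.baseChange_comp, ← LinearMap.baseChange_comp, c₂]

lemma chi_of_subsingleton [Subsingleton E] (w : E →ₗ[A] E) : chi w = 1 := by
  have : Subsingleton (A[X] ⊗[A] E) := by
    refine ⟨fun x y => ?_⟩
    have : ∀ z : A[X] ⊗[A] E, z = 0 := fun z => by
      induction z with
      | zero => rfl
      | tmul r e => rw [Subsingleton.elim e 0, TensorProduct.tmul_zero]
      | add z₁ z₂ h₁ h₂ => rw [h₁, h₂, add_zero]
    rw [this x, this y]
  exact LinearMap.det_eq_one_of_subsingleton _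

lemma chi_pi {ι : Type*} [Fintype ι] [DecidableEq ι] {M : ι → Type*} [∀ i, AddCommGroup (M i)]
    [∀ i, Module A (M i)] [∀ i, Module.Free A (M i)] [∀ i, Module.Finite A (M i)] (w : ∀ i, M i →ₗ[A] M i) :
    chi (LinearMap.pi fun i => w i ∘ₗ LinearMap.proj i) = ∏ i, chi (w i) := by
  let e := TensorProduct.piRight A A[X] A[X] M
  have key : (e : A[X] ⊗[A] (∀ i, M i) →ₗ[A[X]] _) ∘ₗ
      (LinearMap.id - (X : A[X]) • (LinearMap.pi fun i => w i ∘ₗ LinearMap.proj i).baseChange A[X]) ∘ₗ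
      (e.symm : _ →ₗ[A[X]] _) =
      LinearMap.pi fun i => (LinearMap.id - (X : A[X]) • (w i).baseChange A[X]) ∘ₗ LinearMap.proj i := by
    rw [← LinearMap.comp_assoc, LinearEquiv.comp_toLinearMap_symm_eq]
    refine TensorProduct.AlgebraTensorModule.ext fun r x => funext fun i => ?_
    simp [e]
  rw [chi, ← LinearMap.det_conj _ e, key, det_pi]
  rfl

lemma chi_prod_triangular {E' : Type*} [AddCommGroup E'] [Module A E'] [Module.Free A E] [Module.Finite A E]
    [Module.Free A E'] [Module.Finite A E'] (v : E →ₗ[A] E) (u : E' →ₗ[A] E') (z : E' →ₗ[A] E) :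
    chi ((v ∘ₗ LinearMap.fst A E E' + z ∘ₗ LinearMap.snd A E E').prod (u ∘ₗ LinearMap.snd A E E')) =
      chi v * chi u := by
  let e := TensorProduct.prodRight A A[X] A[X] E E'
  set m : Module.End A[X] ((A[X] ⊗[A] E) × (A[X] ⊗[A] E')) :=
    ((LinearMap.id - (X : A[X]) • v.baseChange A[X]) ∘ₗ LinearMap.fst _ _ _ -
        ((X : A[X]) • z.baseChange A[X]) ∘ₗ LinearMap.snd _ _ _).prod
      ((LinearMap.id - (X : A[X]) • u.baseChange A[X]) ∘ₗ LinearMap.snd _ _ _) with hm
  have key : (e : A[X] ⊗[A] (E × E') →ₗ[A[X]] _) ∘ₗ (LinearMap.id - (X : A[X]) •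
      ((v ∘ₗ LinearMap.fst A E E' + z ∘ₗ LinearMap.snd A E E').prod
        (u ∘ₗ LinearMap.snd A E E')).baseChange A[X]) ∘ₗ (e.symm : _ →ₗ[A[X]] _) = m := by
    rw [← LinearMap.comp_assoc, LinearEquiv.comp_toLinearMap_symm_eq]
    refine TensorProduct.AlgebraTensorModule.ext fun r x => ?_
    ext <;> simp [e, hm, TensorProduct.tmul_add, sub_sub]
  rw [chi, ← LinearMap.det_conj _ e, key]
  have : Module.Finite A[X] ((A[X] ⊗[A] E) × (A[X] ⊗[A] E')) := inferInstance
  set p : Module.End A[X] ((A[X] ⊗[A] E) × (A[X] ⊗[A] E')) :=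
    (LinearMap.inl _ _ _) ∘ₗ LinearMap.fst _ _ _ with hp
  rw [det_of_idem p m (LinearMap.ext fun x => by simp [hp]) (LinearMap.ext fun x => by simp [hp, hm])]
  have : p * m * p + (1 - p) * m * (1 - p) = LinearMap.prodMap (LinearMap.id - (X : A[X]) • v.baseChange A[X])
      (LinearMap.id - (X : A[X]) • u.baseChange A[X]) := LinearMap.ext fun x => by simp [hp, hm]
  rw [this, LinearMap.det_prodMap]
  rfl

end

end Groth.L28.DetQis
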