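import Groth.Agent.L28.DetQis.Basic

/-!
Homotopy equivalent two periodic complexes of free modules have the same characteristic series.
-/

set_option autoImplicit false
universe u

namespace Groth.L28.DetQis

variable {A : Type u} [CommRing A] {KE KO LE LO : Type u}
  [AddCommGroup KE] [Module A KE] [AddCommGroup KO] [Module A KO]
  [AddCommGroup LE] [Module A LE] [AddCommGroup LO] [Module A LO]
  [Module.Free A KE] [Module.Finite A KE] [Module.Free A KO] [Module.Finite A KO]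
  [Module.Free A LE] [Module.Finite A LE] [Module.Free A LO] [Module.Finite A LO]

theorem chi_eq_of_homotopyEquiv
    (dE : KE →ₗ[A] KO) (dO : KO →ₗ[A] KE) (eE : LE →ₗ[A] LO) (eO : LO →ₗ[A] LE)
    (hK₁ : dO ∘ₗ dE = 0) (hK₂ : dE ∘ₗ dO = 0) (hL₁ : eO ∘ₗ eE = 0) (hL₂ : eE ∘ₗ eO = 0)
    (fE : KE →ₗ[A] LE) (fO : KO →ₗ[A] LO) (hf₁ : fO ∘ₗ dE = eE ∘ₗ fE) (hf₂ : fE ∘ₗ dO = eO ∘ₗ fO)
    (gE : LE →ₗ[A] KE) (gO : LO →ₗ[A] KO) (hg₁ : gO ∘ₗ eE = dE ∘ₗ gE) (hg₂ : gE ∘ₗ eO = dO ∘ₗ gO)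
    (aE : KE →ₗ[A] KO) (aO : KO →ₗ[A] KE) (haE : gE ∘ₗ fE + (dO ∘ₗ aE + aO ∘ₗ dE) = LinearMap.id)
    (haO : gO ∘ₗ fO + (dE ∘ₗ aO + aE ∘ₗ dO) = LinearMap.id)
    (bE : LE →ₗ[A] LO) (bO : LO →ₗ[A] LE) (hbE : fE ∘ₗ gE + (eO ∘ₗ bE + bO ∘ₗ eE) = LinearMap.id)
    (hbO : fO ∘ₗ gO + (eE ∘ₗ bO + bE ∘ₗ eO) = LinearMap.id)
    (uE : KE →ₗ[A] KE) (uO : KO →ₗ[A] KO) (hu₁ : uO ∘ₗ dE = dE ∘ₗ uE) (hu₂ : uE ∘ₗ dO = dO ∘ₗ uO)
    (vE : LE →ₗ[A] LE) (vO : LO →ₗ[A] LO) (hv₁ : vO ∘ₗ eE = eE ∘ₗ vE) (hv₂ : vE ∘ₗ eO = eO ∘ₗ vO)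
    (zE : KE →ₗ[A] LO) (zO : KO →ₗ[A] LE)
    (hzE : vE ∘ₗ fE = fE ∘ₗ uE + (eO ∘ₗ zE + zO ∘ₗ dE))
    (hzO : vO ∘ₗ fO = fO ∘ₗ uO + (eE ∘ₗ zO + zE ∘ₗ dO)) :
    chi uE * chi vO = chi uO * chi vE := by
  have K₁ : ∀ x, dO (dE x) = 0 := LinearMap.congr_fun hK₁
  have K₂ : ∀ x, dE (dO x) = 0 := LinearMap.congr_fun hK₂
  have L₁ : ∀ x, eO (eE x) = 0 := LinearMap.congr_fun hL₁
  have L₂ : ∀ x, eE (eO x) = 0 := LinearMap.congr_fun hL₂
  have F₁ : ∀ x, fO (dE x) = eE (fE x) := LinearMap.congr_fun hf₁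
  have F₂ : ∀ x, fE (dO x) = eO (fO x) := LinearMap.congr_fun hf₂
  have G₁ : ∀ x, gO (eE x) = dE (gE x) := LinearMap.congr_fun hg₁
  have G₂ : ∀ x, gE (eO x) = dO (gO x) := LinearMap.congr_fun hg₂
  have AE : ∀ x, gE (fE x) + (dO (aE x) + aO (dE x)) = x := LinearMap.congr_fun haE
  have AO : ∀ x, gO (fO x) + (dE (aO x) + aE (dO x)) = x := LinearMap.congr_fun haO
  have BE : ∀ x, fE (gE x) + (eO (bE x) + bO (eE x)) = x := LinearMap.congr_fun hbE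
  have BO : ∀ x, fO (gO x) + (eE (bO x) + bE (eO x)) = x := LinearMap.congr_fun hbO
  have U₁ : ∀ x, uO (dE x) = dE (uE x) := LinearMap.congr_fun hu₁
  have U₂ : ∀ x, uE (dO x) = dO (uO x) := LinearMap.congr_fun hu₂
  have V₁ : ∀ x, vO (eE x) = eE (vE x) := LinearMap.congr_fun hv₁
  have V₂ : ∀ x, vE (eO x) = eO (vO x) := LinearMap.congr_fun hv₂
  have ZE : ∀ x, vE (fE x) = fE (uE x) + (eO (zE x) + zO (dE x)) := LinearMap.congr_fun hzE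
  have ZO : ∀ x, vO (fO x) = fO (uO x) + (eE (zO x) + zE (dO x)) := LinearMap.congr_fun hzO
  -- the cone
  let d₁ : LE × KO →ₗ[A] LO × KE :=
    (eE ∘ₗ LinearMap.fst A LE KO + fO ∘ₗ LinearMap.snd A LE KO).prod (-(dO ∘ₗ LinearMap.snd A LE KO))
  let d₂ : LO × KE →ₗ[A] LE × KO :=
    (eO ∘ₗ LinearMap.fst A LO KE + fE ∘ₗ LinearMap.snd A LO KE).prod (-(dE ∘ₗ LinearMap.snd A LO KE))
  let r₁ : LE × KO →ₗ[A] LO × KE :=
    (bE ∘ₗ LinearMap.fst A LE KO).prod (gE ∘ₗ LinearMap.fst A LE KO - aO ∘ₗ LinearMap.snd A LE KO)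
  let r₂ : LO × KE →ₗ[A] LE × KO :=
    (bO ∘ₗ LinearMap.fst A LO KE).prod (gO ∘ₗ LinearMap.fst A LO KE - aE ∘ₗ LinearMap.snd A LO KE)
  let cE : KO →ₗ[A] LE := bO ∘ₗ fO - fE ∘ₗ aO
  let cO : KE →ₗ[A] LO := bE ∘ₗ fE - fO ∘ₗ aE
  let nE : LE × KO →ₗ[A] LE × KO := (cE ∘ₗ LinearMap.snd A LE KO).prod 0
  let nO : LO × KE →ₗ[A] LO × KE := (cO ∘ₗ LinearMap.snd A LO KE).prod 0
  let wE : LE × KO →ₗ[A] LE × KO :=
    (vE ∘ₗ LinearMap.fst A LE KO + zO ∘ₗ LinearMap.snd A LE KO).prod (uO ∘ₗ LinearMap.snd A LE KO)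
  let wO : LO × KE →ₗ[A] LO × KE :=
    (vO ∘ₗ LinearMap.fst A LO KE + zE ∘ₗ LinearMap.snd A LO KE).prod (uE ∘ₗ LinearMap.snd A LO KE)
  have D21 : d₂ ∘ₗ d₁ = 0 := LinearMap.ext fun x => by
    refine Prod.ext ?_ ?_
    · show eO (eE x.1 + fO x.2) + fE (-(dO x.2)) = 0
      rw [map_add, map_neg, L₁, F₂]; abel
    · show -(dE (-(dO x.2))) = 0
      rw [map_neg, K₂]; simp
  have D12 : d₁ ∘ₗ d₂ = 0 := LinearMap.ext fun x => by
    refine Prod.ext ?_ ?_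
    · show eE (eO x.1 + fE x.2) + fO (-(dE x.2)) = 0
      rw [map_add, map_neg, L₂, F₁]; abel
    · show -(dO (-(dE x.2))) = 0
      rw [map_neg, K₁]; simp
  have HE : d₂ ∘ₗ r₁ + r₂ ∘ₗ d₁ = LinearMap.id + nE := LinearMap.ext fun x => by
    refine Prod.ext ?_ ?_
    · show eO (bE x.1) + fE (gE x.1 - aO x.2) + bO (eE x.1 + fO x.2) = x.1 + (bO (fO x.2) - fE (aO x.2))
      simp only [map_add, map_sub]
      conv_rhs => arg 1; rw [← BE x.1]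
      abel
    · show -(dE (gE x.1 - aO x.2)) + (gO (eE x.1 + fO x.2) - aE (-(dO x.2))) = x.2 + 0
      simp only [map_add, map_sub, map_neg, G₁]
      conv_rhs => arg 1; rw [← AO x.2]
      abel
  have HO : d₁ ∘ₗ r₂ + r₁ ∘ₗ d₂ = LinearMap.id + nO := LinearMap.ext fun x => by
    refine Prod.ext ?_ ?_
    · show eE (bO x.1) + fO (gO x.1 - aE x.2) + bE (eO x.1 + fE x.2) = x.1 + (bE (fE x.2) - fO (aE x.2))
      simp only [map_add, map_sub]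
      conv_rhs => arg 1; rw [← BO x.1]
      abel
    · show -(dO (gO x.1 - aE x.2)) + (gE (eO x.1 + fE x.2) - aO (-(dE x.2))) = x.2 + 0
      simp only [map_add, map_sub, map_neg, G₂]
      conv_rhs => arg 1; rw [← AE x.2]
      abel
  have comm₁ : d₁ ∘ₗ nE = nO ∘ₗ d₁ := by
    have h : d₁ ∘ₗ (LinearMap.id + nE) = (LinearMap.id + nO) ∘ₗ d₁ := by
      rw [← HE, ← HO, LinearMap.comp_add, LinearMap.add_comp, ← LinearMap.comp_assoc, D12,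
        LinearMap.comp_assoc d₁ d₂ r₁, D21, LinearMap.comp_zero, LinearMap.zero_comp, zero_add,
        add_zero, LinearMap.comp_assoc]
    simpa [LinearMap.comp_add, LinearMap.add_comp] using h
  have comm₂ : d₂ ∘ₗ nO = nE ∘ₗ d₂ := by
    have h : d₂ ∘ₗ (LinearMap.id + nO) = (LinearMap.id + nE) ∘ₗ d₂ := by
      rw [← HE, ← HO, LinearMap.comp_add, LinearMap.add_comp, ← LinearMap.comp_assoc, D21,
        LinearMap.comp_assoc d₂ d₁ r₂, D12, LinearMap.comp_zero, LinearMap.zero_comp, zero_add,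
        add_zero, LinearMap.comp_assoc]
    simpa [LinearMap.comp_add, LinearMap.add_comp] using h
  have nnE : nE ∘ₗ nE = 0 := LinearMap.ext fun x => by
    refine Prod.ext ?_ rfl
    show cE 0 = 0
    exact map_zero _
  have nnO : nO ∘ₗ nO = 0 := LinearMap.ext fun x => by
    refine Prod.ext ?_ rfl
    show cO 0 = 0
    exact map_zero _
  have key := chi_eq_of_contractible d₁ d₂ ((LinearMap.id - nO) ∘ₗ r₁) ((LinearMap.id - nE) ∘ₗ r₂) D21 D12 ?_ ?_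
    wE wO ?_ ?_
  · rw [chi_prod_triangular, chi_prod_triangular] at key
    rw [mul_comm (chi uE), mul_comm (chi uO)]
    exact key.symm
  · rw [← LinearMap.comp_assoc, LinearMap.comp_sub, LinearMap.comp_id, comm₂, LinearMap.sub_comp,
      LinearMap.comp_assoc, LinearMap.comp_assoc (f := d₁), LinearMap.sub_comp, LinearMap.id_comp,
      sub_add_sub_comm, HE, ← LinearMap.comp_add, HE, LinearMap.comp_add, LinearMap.comp_id, nnE]
    simp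
  · rw [← LinearMap.comp_assoc, LinearMap.comp_sub, LinearMap.comp_id, comm₁, LinearMap.sub_comp,
      LinearMap.comp_assoc, LinearMap.comp_assoc (f := d₂), LinearMap.sub_comp, LinearMap.id_comp,
      sub_add_sub_comm, HO, ← LinearMap.comp_add, HO, LinearMap.comp_add, LinearMap.comp_id, nnO]
    simp
  · refine LinearMap.ext fun x => Prod.ext ?_ ?_
    · show vO (eE x.1 + fO x.2) + zE (-(dO x.2)) = eE (vE x.1 + zO x.2) + fO (uO x.2)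
      simp only [map_add, map_neg, V₁, ZO]
      abel
    · show uE (-(dO x.2)) = -(dO (uO x.2))
      rw [map_neg, U₂]
  · refine LinearMap.ext fun x => Prod.ext ?_ ?_
    · show vE (eO x.1 + fE x.2) + zO (-(dE x.2)) = eO (vO x.1 + zE x.2) + fE (uE x.2)
      simp only [map_add, map_neg, V₂, ZE]
      abel
    · show uO (-(dE x.2)) = -(dE (uE x.2))
      rw [map_neg, U₁]

end Groth.L28.DetQis
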