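import Groth.Agent.L28.DetQis.Cone
import Groth.Prelude.Def_SGA4hB
import Mathlib.Algebra.Category.ModuleCat.Projective
import Mathlib.Algebra.Category.ModuleCat.Abelian
import Mathlib.Algebra.Homology.Homotopy
import Mathlib.Algebra.Homology.DerivedCategory.KProjective
import Mathlib.Order.Interval.Finset.Basic
import Mathlib.Data.Int.Interval

/-!
Invariance of `det (1 - u t, K)` under isomorphisms in the derived category.
-/

set_option autoImplicit false
universe u

namespace Groth.L28.DetQis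

open CategoryTheory CategoryTheory.Limits

variable {A : Type u} [CommRing A] {K L N : CochainComplex (ModuleCat.{u} A) ℤ}

/-- the linear map between sums of terms given by a matrix of morphisms -/
noncomputable def sumMap (g : ∀ i j, K.X i ⟶ L.X j) (s t : Finset ℤ) :
    (∀ i : s, K.X i.1) →ₗ[A] (∀ j : t, L.X j.1) :=
  LinearMap.pi fun j => ∑ i : s, (g i.1 j.1).hom ∘ₗ LinearMap.proj i

/-- the diagonal linear map between sums of terms -/
noncomputable def diagMap (f : ∀ i, K.X i ⟶ L.X i) (s : Finset ℤ) :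
    (∀ i : s, K.X i.1) →ₗ[A] (∀ j : s, L.X j.1) :=
  LinearMap.pi fun j => (f j.1).hom ∘ₗ LinearMap.proj j

lemma sumMap_apply (g : ∀ i j, K.X i ⟶ L.X j) (s t : Finset ℤ) (x : ∀ i : s, K.X i.1) (j : t) :
    sumMap g s t x j = ∑ i : s, (g i.1 j.1).hom (x i) := by
  simp [sumMap, LinearMap.sum_apply]

lemma diagMap_apply (f : ∀ i, K.X i ⟶ L.X i) (s : Finset ℤ) (x : ∀ i : s, K.X i.1) (j : s) :
    diagMap f s x j = (f j.1).hom (x j) := rfl

lemma sumMap_comp (g : ∀ i j, K.X i ⟶ L.X j) (g' : ∀ i j, L.X i ⟶ N.X j) (s t r : Finset ℤ) :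
    sumMap g' t r ∘ₗ sumMap g s t = sumMap (fun i k => ∑ j ∈ t, g i j ≫ g' j k) s r := by
  refine LinearMap.ext fun x => funext fun k => ?_
  rw [LinearMap.comp_apply, sumMap_apply, sumMap_apply]
  simp only [sumMap_apply, map_sum]
  rw [Finset.sum_comm]
  refine Finset.sum_congr rfl fun i _ => ?_
  rw [← Finset.sum_coe_sort t, ModuleCat.hom_sum, LinearMap.sum_apply]
  rfl

lemma diag_comp_sum (g : ∀ i j, K.X i ⟶ L.X j) (f : ∀ i, L.X i ⟶ N.X i) (s t : Finset ℤ) :
    diagMap f t ∘ₗ sumMap g s t = sumMap (fun i j => g i j ≫ f j) s t := by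
  refine LinearMap.ext fun x => funext fun k => ?_
  rw [LinearMap.comp_apply, diagMap_apply, sumMap_apply, sumMap_apply, map_sum]
  rfl

lemma sum_comp_diag (f : ∀ i, K.X i ⟶ L.X i) (g : ∀ i j, L.X i ⟶ N.X j) (s t : Finset ℤ) :
    sumMap g s t ∘ₗ diagMap f s = sumMap (fun i j => f i ≫ g i j) s t := by
  refine LinearMap.ext fun x => funext fun k => ?_
  rw [LinearMap.comp_apply, sumMap_apply, sumMap_apply]
  rfl

lemma diag_comp_diag (f : ∀ i, K.X i ⟶ L.X i) (g : ∀ i, L.X i ⟶ N.X i) (s : Finset ℤ) :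
    diagMap g s ∘ₗ diagMap f s = diagMap (fun i => f i ≫ g i) s := rfl

lemma sumMap_add (g g' : ∀ i j, K.X i ⟶ L.X j) (s t : Finset ℤ) :
    sumMap g s t + sumMap g' s t = sumMap (fun i j => g i j + g' i j) s t := by
  refine LinearMap.ext fun x => funext fun k => ?_
  rw [LinearMap.add_apply, Pi.add_apply, sumMap_apply, sumMap_apply, sumMap_apply, ← Finset.sum_add_distrib]
  rfl

lemma sumMap_eq_diag {s : Finset ℤ} (g : ∀ i j, K.X i ⟶ L.X j) (φ : ∀ i, K.X i ⟶ L.X i)
    (hd : ∀ i ∈ s, g i i = φ i) (ho : ∀ i ∈ s, ∀ j ∈ s, i ≠ j → g i j = 0) :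
    sumMap g s s = diagMap φ s := by
  refine LinearMap.ext fun x => funext fun k => ?_
  rw [sumMap_apply, diagMap_apply, Finset.sum_eq_single k]
  · rw [hd _ k.2]
  · intro i _ hne
    rw [ho _ i.2 _ k.2 (fun h => hne (Subtype.ext h))]
    rfl
  · intro h; exact absurd (Finset.mem_univ k) h

lemma sumMap_eq_zero (g : ∀ i j, K.X i ⟶ L.X j) (s t : Finset ℤ) (h : ∀ i j, g i j = 0) :
    sumMap g s t = 0 := by
  refine LinearMap.ext fun x => funext fun k => ?_
  rw [sumMap_apply]
  simp [h]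

lemma diagMap_add (f g : ∀ i, K.X i ⟶ L.X i) (s : Finset ℤ) :
    diagMap f s + diagMap g s = diagMap (fun i => f i + g i) s := rfl

lemma diagMap_id (s : Finset ℤ) : diagMap (fun i => 𝟙 (K.X i)) s = LinearMap.id := rfl

/-- `d` summed over the terms of a given parity -/
noncomputable abbrev dMap (K : CochainComplex (ModuleCat.{u} A) ℤ) (s t : Finset ℤ) :=
  sumMap (K := K) (L := K) (fun i j => K.d i j) s t

lemma dMap_comp (K : CochainComplex (ModuleCat.{u} A) ℤ) (s t r : Finset ℤ) :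
    dMap K t r ∘ₗ dMap K s t = 0 := by
  rw [sumMap_comp]
  exact sumMap_eq_zero _ _ _ fun i k => Finset.sum_eq_zero fun j _ => K.d_comp_d i j k

lemma hom_comm (f : K ⟶ L) (s t : Finset ℤ) :
    diagMap f.f t ∘ₗ dMap K s t = dMap L s t ∘ₗ diagMap f.f s := by
  rw [diag_comp_sum, sum_comp_diag]
  simp

/-- a finite set of degrees is complete for a parity class -/
def Covers (K : CochainComplex (ModuleCat.{u} A) ℤ) (t : Finset ℤ) (p : ℤ → Prop) : Prop :=
  (∀ j ∈ t, p j) ∧ ∀ j, p j → j ∉ t → IsZero (K.X j)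

lemma homotopy_eq {u v : K ⟶ L} (h : Homotopy u v) {s t : Finset ℤ} {p : ℤ → Prop}
    (hK : Covers K t p) (hL : Covers L t p) (hs : ∀ i ∈ s, p (i - 1) ∧ p (i + 1)) :
    diagMap u.f s = diagMap v.f s + ((dMap L t s) ∘ₗ sumMap h.hom s t + sumMap h.hom t s ∘ₗ dMap K s t) := by
  rw [sumMap_comp, sumMap_comp, sumMap_add,
    sumMap_eq_diag _ (fun i => (dNext i h.hom + prevD i h.hom)), diagMap_add]
  · refine LinearMap.ext fun x => funext fun k => ?_
    rw [diagMap_apply, diagMap_apply, h.comm k.1]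
    congr 1
    abel_nf
  · intro i hi
    have e1 : ∑ j ∈ t, h.hom i j ≫ L.d j i = h.hom i (i - 1) ≫ L.d (i - 1) i := by
      refine Finset.sum_eq_single (i - 1) (fun j _ hj => ?_) (fun hj => ?_)
      · rw [h.zero i j (by simp; omega), zero_comp]
      · exact ((hL.2 _ (hs i hi).1 hj).eq_of_tgt (h.hom i (i - 1)) 0) ▸ zero_comp
    have e2 : ∑ j ∈ t, K.d i j ≫ h.hom j i = K.d i (i + 1) ≫ h.hom (i + 1) i := by
      refine Finset.sum_eq_single (i + 1) (fun j _ hj => ?_) (fun hj => ?_)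
      · rw [K.shape i j (by simp; omega), zero_comp]
      · exact ((hK.2 _ (hs i hi).2 hj).eq_of_tgt (K.d i (i + 1)) 0) ▸ zero_comp
    rw [e1, e2, dNext_eq h.hom (show (ComplexShape.up ℤ).Rel i (i + 1) by simp),
      prevD_eq h.hom (show (ComplexShape.up ℤ).Rel (i - 1) i by simp)]
    abel
  · intro i _ k _ hik
    have e1 : ∑ j ∈ t, h.hom i j ≫ L.d j k = 0 := Finset.sum_eq_zero fun j _ => by
      by_cases hj : j + 1 = i
      · rw [L.shape j k (by simp; omega), comp_zero]
      · rw [h.zero i j (by simpa using hj), zero_comp]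
    have e2 : ∑ j ∈ t, K.d i j ≫ h.hom j k = 0 := Finset.sum_eq_zero fun j _ => by
      by_cases hj : i + 1 = j
      · rw [h.zero j k (by simp; omega), comp_zero]
      · rw [K.shape i j (by simpa using hj), zero_comp]
    rw [e1, e2, add_zero]

lemma chi_diag_eq (K : CochainComplex (ModuleCat.{u} A) ℤ) (u : K ⟶ K) (p : ℤ → Prop) (s : Finset ℤ)
    (hK : ∀ i : ℤ, Module.Finite A (K.X i) ∧ Module.Free A (K.X i)) (hs : Covers K s p) :
    chi (diagMap u.f s) = ∏ᶠ i : {i : ℤ // p i}, SGA4h.detOneSub (K.X i.1) (u.f i.1) := by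
  have := fun i => (hK i).1
  have := fun i => (hK i).2
  rw [show diagMap u.f s = LinearMap.pi fun j : s => (u.f j.1).hom ∘ₗ LinearMap.proj j from rfl, chi_pi]
  let e : s ↪ {i : ℤ // p i} := ⟨fun i => ⟨i.1, hs.1 _ i.2⟩, fun i j hij => Subtype.ext (congrArg (·.1) hij :)⟩
  rw [finprod_eq_prod_of_mulSupport_subset _ (s := Finset.univ.map e), Finset.prod_map]
  · rfl
  · intro i hi
    by_contra hne
    apply hi
    have hz : IsZero (K.X i.1) := hs.2 _ i.2 fun hmem =>
      hne (Finset.mem_coe.2 (Finset.mem_map.2 ⟨⟨i.1, hmem⟩, Finset.mem_univ _, rfl⟩))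
    have := ModuleCat.subsingleton_of_isZero hz
    exact chi_of_subsingleton _

theorem det_eq (K L : CochainComplex (ModuleCat.{u} A) ℤ) (a b : ℤ) [K.IsStrictlyGE a] [K.IsStrictlyLE b]
    [L.IsStrictlyGE a] [L.IsStrictlyLE b]
    (hK : ∀ i : ℤ, Module.Finite A (K.X i) ∧ Module.Free A (K.X i))
    (hL : ∀ i : ℤ, Module.Finite A (L.X i) ∧ Module.Free A (L.X i))
    (u : K ⟶ K) (v : L ⟶ L) (f : K ⟶ L) (g : L ⟶ K) (ha : Homotopy (𝟙 K) (f ≫ g))
    (hb : Homotopy (𝟙 L) (g ≫ f)) (hz : Homotopy (f ≫ v) (u ≫ f)) :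
    SGA4h.detEven K u * SGA4h.detOdd L v = SGA4h.detOdd K u * SGA4h.detEven L v := by
  classical
  have := fun i => (hK i).1
  have := fun i => (hK i).2
  have := fun i => (hL i).1
  have := fun i => (hL i).2
  let se : Finset ℤ := (Finset.Icc a b).filter fun i => Even i
  let so : Finset ℤ := (Finset.Icc a b).filter fun i => Odd i
  have cov : ∀ (M : CochainComplex (ModuleCat.{u} A) ℤ) [M.IsStrictlyGE a] [M.IsStrictlyLE b]
      (p : ℤ → Prop) [DecidablePred p], Covers M ((Finset.Icc a b).filter p) p := fun M _ _ p _ => by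
    refine ⟨fun j hj => (Finset.mem_filter.1 hj).2, fun j hp hj => ?_⟩
    by_cases h1 : a ≤ j
    · exact CochainComplex.isZero_of_isStrictlyLE M b j
        (by by_contra h2; exact hj (Finset.mem_filter.2 ⟨Finset.mem_Icc.2 ⟨h1, by omega⟩, hp⟩))
    · exact CochainComplex.isZero_of_isStrictlyGE M a j (by omega)
  have hse : ∀ i ∈ se, Odd (i - 1) ∧ Odd (i + 1) := fun i hi => by
    have := (Finset.mem_filter.1 hi).2
    exact ⟨Even.sub_odd this odd_one, Even.add_odd this odd_one⟩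
  have hso : ∀ i ∈ so, Even (i - 1) ∧ Even (i + 1) := fun i hi => by
    have := (Finset.mem_filter.1 hi).2
    exact ⟨Odd.sub_odd this odd_one, Odd.add_odd this odd_one⟩
  have e := chi_eq_of_homotopyEquiv (dMap K se so) (dMap K so se) (dMap L se so) (dMap L so se)
    (dMap_comp K _ _ _) (dMap_comp K _ _ _) (dMap_comp L _ _ _) (dMap_comp L _ _ _)
    (diagMap f.f se) (diagMap f.f so) (hom_comm f _ _) (hom_comm f _ _)
    (diagMap g.f se) (diagMap g.f so) (hom_comm g _ _) (hom_comm g _ _)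
    (sumMap ha.hom se so) (sumMap ha.hom so se)
    (homotopy_eq ha (cov K _) (cov K _) hse).symm
    (homotopy_eq ha (cov K _) (cov K _) hso).symm
    (sumMap hb.hom se so) (sumMap hb.hom so se)
    (homotopy_eq hb (cov L _) (cov L _) hse).symm
    (homotopy_eq hb (cov L _) (cov L _) hso).symm
    (diagMap u.f se) (diagMap u.f so) (hom_comm u _ _) (hom_comm u _ _)
    (diagMap v.f se) (diagMap v.f so) (hom_comm v _ _) (hom_comm v _ _)
    (sumMap hz.hom se so) (sumMap hz.hom so se)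
    (homotopy_eq hz (cov K _) (cov L _) hse)
    (homotopy_eq hz (cov K _) (cov L _) hso)
  rw [chi_diag_eq K u _ se hK (cov K _), chi_diag_eq K u _ so hK (cov K _),
    chi_diag_eq L v _ so hL (cov L _), chi_diag_eq L v _ se hL (cov L _)] at e
  exact e

attribute [local instance] HasDerivedCategory.standard

theorem det_eq_of_iso (K L : CochainComplex (ModuleCat.{u} A) ℤ) (a b : ℤ) [K.IsStrictlyGE a] [K.IsStrictlyLE b]
    [L.IsStrictlyGE a] [L.IsStrictlyLE b]
    (hK : ∀ i : ℤ, Module.Finite A (K.X i) ∧ Module.Free A (K.X i))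
    (hL : ∀ i : ℤ, Module.Finite A (L.X i) ∧ Module.Free A (L.X i))
    (u : K ⟶ K) (v : L ⟶ L) (φ : DerivedCategory.Q.obj K ≅ DerivedCategory.Q.obj L)
    (hφ : DerivedCategory.Q.map u ≫ φ.hom = φ.hom ≫ DerivedCategory.Q.map v) :
    SGA4h.detEven K u * SGA4h.detOdd L v = SGA4h.detOdd K u * SGA4h.detEven L v := by
  have proj : ∀ (M : CochainComplex (ModuleCat.{u} A) ℤ) [M.IsStrictlyLE b],
      (∀ i : ℤ, Module.Free A (M.X i)) → M.IsKProjective := fun M _ hM => by
    have : ∀ i, Projective (M.X i) := fun i => by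
      have := hM i
      exact (IsProjective.iff_projective (M.X i)).1 inferInstance
    exact CochainComplex.isKProjective_of_projective M b
  have := proj K fun i => (hK i).2
  have := proj L fun i => (hL i).2
  have lift : ∀ {M M' : CochainComplex (ModuleCat.{u} A) ℤ} [M.IsKProjective]
      (ψ : DerivedCategory.Q.obj M ⟶ DerivedCategory.Q.obj M'),
      ∃ m : M ⟶ M', DerivedCategory.Q.map m = ψ := fun {M M'} _ ψ => by
    obtain ⟨k, hk⟩ := (CochainComplex.IsKProjective.Qh_map_bijective M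
      ((HomotopyCategory.quotient _ _).obj M')).surjective
      (((DerivedCategory.quotientCompQhIso _).app M).hom ≫ ψ ≫ ((DerivedCategory.quotientCompQhIso _).app M').inv)
    obtain ⟨m, rfl⟩ := (HomotopyCategory.quotient _ _).map_surjective k
    refine ⟨m, ?_⟩
    have h := (DerivedCategory.quotientCompQhIso (ModuleCat.{u} A)).hom.naturality m
    simp only [Functor.comp_map] at h
    rw [hk] at h
    rw [← cancel_epi ((DerivedCategory.quotientCompQhIso _).app M).hom]
    simpa using h.symm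
  have htpy : ∀ {M M' : CochainComplex (ModuleCat.{u} A) ℤ} [M.IsKProjective] (m m' : M ⟶ M'),
      DerivedCategory.Q.map m = DerivedCategory.Q.map m' → Nonempty (Homotopy m m') := fun {M M'} _ m m' h => by
    refine ⟨HomotopyCategory.homotopyOfEq _ _
      ((CochainComplex.IsKProjective.Qh_map_bijective M _).injective ?_)⟩
    exact (NatIso.naturality_1 (DerivedCategory.quotientCompQhIso (ModuleCat.{u} A)).symm m).symm.trans
      (by rw [h]; exact NatIso.naturality_1 (DerivedCategory.quotientCompQhIso (ModuleCat.{u} A)).symm m')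
  obtain ⟨f, hf⟩ := lift φ.hom
  obtain ⟨g, hg⟩ := lift φ.inv
  obtain ⟨ha⟩ := htpy (𝟙 K) (f ≫ g) (by simp [hf, hg])
  obtain ⟨hb⟩ := htpy (𝟙 L) (g ≫ f) (by simp [hf, hg])
  obtain ⟨hz⟩ := htpy (f ≫ v) (u ≫ f) (by simp [hf, hφ])
  exact det_eq K L a b hK hL u v f g ha hb hz

end Groth.L28.DetQis
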